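import Cfsg.Agent.Fusion.OmegaSeven.Comb
import Cfsg.Agent.Fusion.Simple
import Cfsg.Agent.Fusion.GroupSystem
import Cfsg.Agent.PGroups.Basic

/-!
A group with Sylow 2-subgroup `2⁶:D₈` inside an embedded `2⁶:A₇`, the latter controlling `N(2⁶)`.
-/

set_option autoImplicit false

namespace Cfsg.Lib.OmegaSevenFus

open Cfsg Cfsg.FusionSystem Cfsg.Lib.Fusion
open scoped Pointwise

variable {G : Type*} [Group G]

/-- The hypotheses on the embedded group. -/
structure Emb (φ : H →* G) : Prop where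
  inj : Function.Injective φ
  norm : ∀ g : G, (∀ a : H, (a : W) ∈ EW → ∃ b : H, (b : W) ∈ EW ∧ g * φ a * g⁻¹ = φ b) → g ∈ φ.range
  fus : ∃ g : G, ∃ a b : H, (a : W) = eW ∧ (b : W) = tW ∧ g * φ a * g⁻¹ = φ b

theorem Emb.conj {φ : H →* G} (h : Emb φ) (g : G) : Emb ((MulAut.conj g).toMonoidHom.comp φ) where
  inj := (MulAut.conj g).injective.comp h.inj
  norm x hx := by
    obtain ⟨a, ha⟩ := h.norm (g⁻¹ * x * g) fun a ha => by
      obtain ⟨b, hb, e⟩ := hx a ha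
      refine ⟨b, hb, ?_⟩
      simp only [MonoidHom.comp_apply, MulEquiv.coe_toMonoidHom, MulAut.conj_apply] at e
      calc g⁻¹ * x * g * φ a * (g⁻¹ * x * g)⁻¹ = g⁻¹ * (x * (g * φ a * g⁻¹) * x⁻¹) * g := by group
        _ = g⁻¹ * (g * φ b * g⁻¹) * g := by rw [e]
        _ = φ b := by group
    exact ⟨a, by simp [ha]; group⟩
  fus := by
    obtain ⟨x, a, b, ha, hb, e⟩ := h.fus
    refine ⟨g * x * g⁻¹, a, b, ha, hb, ?_⟩
    simp only [MonoidHom.comp_apply, MulEquiv.coe_toMonoidHom, MulAut.conj_apply, ← e]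
    group

/-- The image of the Sylow 2-subgroup. -/
def image (φ : H →* G) : Subgroup G := (SW.subgroupOf H).map φ

theorem mem_image {φ : H →* G} {x : G} : x ∈ image φ ↔ ∃ a : H, (a : W) ∈ SW ∧ φ a = x :=
  Subgroup.mem_map

theorem image_pGroup (φ : H →* G) : IsPGroup 2 (image φ) := by
  rintro ⟨x, hx⟩
  obtain ⟨a, ha, rfl⟩ := mem_image.1 hx
  refine ⟨3, Subtype.ext ?_⟩
  have : a ^ 2 ^ 3 = 1 := Subtype.ext (by simpa using SW_pow ha)
  show φ a ^ 2 ^ 3 = 1
  rw [← map_pow, this, map_one]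

theorem apply_mem_image_iff {φ : H →* G} (h : Emb φ) {a : H} : φ a ∈ image φ ↔ (a : W) ∈ SW := by
  refine ⟨fun ha => ?_, fun ha => mem_image.2 ⟨a, ha, rfl⟩⟩
  obtain ⟨b, hb, e⟩ := mem_image.1 ha
  exact h.inj e ▸ hb

theorem image_self_normalizing {φ : H →* G} (h : Emb φ) {g : G} (hg : ∀ x ∈ image φ, g * x * g⁻¹ ∈ image φ) :
    g ∈ image φ := by
  have hgE : ∀ a : H, (a : W) ∈ EW → ∃ b : H, (b : W) ∈ EW ∧ g * φ a * g⁻¹ = φ b := by
    -- the preimage of the conjugate of `EW`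
    let N : Subgroup H :=
      Subgroup.comap φ (Subgroup.map (MulAut.conj g).toMonoidHom (Subgroup.map φ (EW.subgroupOf H)))
    have hmem : ∀ {b : H}, b ∈ N ↔ ∃ a : H, (a : W) ∈ EW ∧ g * φ a * g⁻¹ = φ b := by
      intro b
      constructor
      · rintro ⟨_, ⟨a, ha, rfl⟩, e⟩; exact ⟨a, ha, e⟩
      · rintro ⟨a, ha, e⟩; exact ⟨φ a, ⟨a, ha, rfl⟩, e⟩
    have hlift : ∀ a : H, (a : W) ∈ EW → ∃ b : H, (b : W) ∈ SW ∧ g * φ a * g⁻¹ = φ b := fun a ha => by
      obtain ⟨b, hb, e⟩ := mem_image.1 (hg _ (mem_image.2 ⟨a, EW_le ha, rfl⟩))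
      exact ⟨b, hb, e.symm⟩
    choose f hfS hf using hlift
    have hA : (N.map H.subtype) = EW := by
      refine elementary_eq _ ?_ ?_ ?_
      · rintro _ ⟨b, hb, rfl⟩
        obtain ⟨a, ha, e⟩ := hmem.1 hb
        exact (h.inj (e.symm.trans (hf a ha))) ▸ hfS a ha
      · have e : N ≃ EW :=
          (Equiv.ofBijective (fun a : EW => (⟨f ⟨a.1, a.2.1⟩ a.2, hmem.2 ⟨⟨a.1, a.2.1⟩, a.2, hf _ _⟩⟩ : N))
            ⟨fun a b hab => by
              have h1 := congrArg (fun x : N => φ x.1) hab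
              simp only [← hf, mul_left_inj, mul_right_inj] at h1
              exact Subtype.ext (congrArg (fun x : H => (x : W)) (h.inj h1) :), fun b => by
              obtain ⟨a, ha, e⟩ := hmem.1 b.2
              exact ⟨⟨a.1, ha⟩, Subtype.ext (h.inj ((hf a ha).symm.trans e))⟩⟩).symm
        rw [← card_EW]
        exact (Nat.card_congr (N.equivMapOfInjective H.subtype Subtype.coe_injective).toEquiv).symm.trans
          (Nat.card_congr e)
      · rintro _ ⟨b, hb, rfl⟩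
        obtain ⟨a, ha, e⟩ := hmem.1 hb
        have h1 : b * b = 1 := h.inj (by
          rw [map_mul, ← e, map_one, show g * φ a * g⁻¹ * (g * φ a * g⁻¹) = g * φ (a * a) * g⁻¹ by
            rw [map_mul]; group, show a * a = 1 from Subtype.ext (EW_sq ha), map_one]
          group)
        rw [← map_mul, h1, map_one]
    intro a ha
    refine ⟨f a ha, ?_, hf a ha⟩
    rw [← hA]
    exact ⟨f a ha, hmem.2 ⟨a, ha, hf a ha⟩, rfl⟩
  obtain ⟨w, rfl⟩ := h.norm g hgE
  rw [apply_mem_image_iff h]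
  refine right_of_normalizes w.2 fun s hs => ?_
  have := hg _ (mem_image.2 ⟨⟨s, (mem_SW.1 hs).1⟩, hs, rfl⟩)
  rwa [← map_inv, ← map_mul, ← map_mul, apply_mem_image_iff h] at this

theorem autGroup_eq [Finite G] {φ : H →* G} (h : Emb φ) :
    (groupFusionSystem (image φ)).autGroup (image φ) = Cfsg.Inn ↥(image φ) := by
  rw [autGroup_group le_rfl]
  refine le_antisymm (fun α hα => ?_) ?_
  · obtain ⟨g, -, hg⟩ := mem_autInducedBy.1 hα
    have hgS : g ∈ image φ := image_self_normalizing h fun x hx => hg ⟨x, hx⟩ ▸ (α ⟨x, hx⟩).2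
    exact ⟨⟨g, hgS⟩, MulEquiv.ext fun x => Subtype.ext (hg x).symm⟩
  · rintro _ ⟨s, rfl⟩
    exact mem_autInducedBy.2 ⟨s, trivial, fun x => rfl⟩

theorem stronglyClosed_eq [Finite G] {φ : H →* G} (h : Emb φ) (T : Subgroup G)
    (hT : (groupFusionSystem (image φ)).StronglyClosed T) : T = ⊥ ∨ T = image φ := by
  haveI : Fact (Nat.Prime 2) := ⟨Nat.prime_two⟩
  by_cases hb : T = ⊥
  · exact Or.inl hb
  refine Or.inr (le_antisymm hT.1 ?_)
  have hcl : ∀ g x : G, x ∈ T → g * x * g⁻¹ ∈ image φ → g * x * g⁻¹ ∈ T := fun g x hx hgx => by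
    have hm : IsMap (groupFusionSystem (image φ)) (Subgroup.zpowers x) (fun y => g * y * g⁻¹) := by
      refine isMap_group_iff.mpr ⟨Subgroup.zpowers_le.2 (hT.1 hx), fun y hy => ?_, g, fun _ _ => rfl⟩
      obtain ⟨i, rfl⟩ := hy
      show g * x ^ i * g⁻¹ ∈ _
      rw [← _root_.conj_zpow]
      exact zpow_mem hgx i
    exact stronglyClosed_apply hT hm (Subgroup.mem_zpowers x) hx
  have hn : (T.subgroupOf (image φ)).Normal := ⟨fun x hx s => Subgroup.mem_subgroupOf.2 (by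
    simpa using hcl s x (Subgroup.mem_subgroupOf.1 hx) (by simpa using (s * x * s⁻¹).2))⟩
  obtain ⟨⟨g, hgS⟩, hgT, hgc, hg2⟩ := Cfsg.Lib.PGroups.exists_mem_center_of_normal_ne_bot (image_pGroup φ)
    (N := T.subgroupOf (image φ)) (by
      rw [Ne, Subgroup.subgroupOf_eq_bot, disjoint_iff, inf_eq_left.2 hT.1]; exact hb)
  obtain ⟨z, hzS, rfl⟩ := mem_image.1 hgS
  let A : Subgroup W := (T.comap φ).map H.subtype
  have hA : ∀ {w : W}, w ∈ A ↔ ∃ hw : w ∈ H, φ ⟨w, hw⟩ ∈ T := by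
    intro w
    constructor
    · rintro ⟨a, ha, rfl⟩; exact ⟨a.2, ha⟩
    · rintro ⟨hw, e⟩; exact ⟨⟨w, hw⟩, e, rfl⟩
  have hAS : A ≤ SW := fun w hw => by
    obtain ⟨hwH, e⟩ := hA.1 hw
    exact (apply_mem_image_iff h).1 (hT.1 e)
  have key : SW ≤ A := by
    refine closed_eq A hAS (fun w hw a ha hwa => ?_) (fun he => ?_) (z := (z : W)) ?_ ?_ (fun e he => ?_)
    · obtain ⟨haH, e⟩ := hA.1 ha
      have h1 := hcl (φ ⟨w, hw⟩) _ e
        (by rw [← map_inv, ← map_mul, ← map_mul, apply_mem_image_iff h]; exact hwa)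
      rw [← map_inv, ← map_mul, ← map_mul] at h1
      exact ⟨_, h1, rfl⟩
    · obtain ⟨haH, e⟩ := hA.1 he
      obtain ⟨g, a, b, ha, hb', e'⟩ := h.fus
      have : φ b ∈ image φ := (apply_mem_image_iff h).2 (hb' ▸ dP_mem 5)
      have h1 := hcl g (φ a) (by rwa [show a = ⟨eW, haH⟩ from Subtype.ext ha]) (e' ▸ this)
      rw [e'] at h1
      exact ⟨b, h1, hb'⟩
    · exact ⟨z, hgT, rfl⟩
    · intro h1
      have h2 : (⟨φ z, hgS⟩ : image φ) = 1 :=
        Subtype.ext (show φ z = 1 by rw [show z = 1 from Subtype.ext h1, map_one])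
      rw [h2, orderOf_one] at hg2
      omega
    · have h1 := congrArg Subtype.val (Subgroup.mem_center_iff.1 hgc
        ⟨φ ⟨e, he.1⟩, mem_image.2 ⟨⟨e, he.1⟩, EW_le he, rfl⟩⟩)
      simp only [Subgroup.coe_mul, ← map_mul] at h1
      exact (congrArg Subtype.val (h.inj h1)).symm
  intro x hx
  obtain ⟨a, ha, rfl⟩ := mem_image.1 hx
  obtain ⟨hw, e⟩ := hA.1 (key ha)
  exact e

theorem image_ne_bot {φ : H →* G} (h : Emb φ) : image φ ≠ ⊥ := fun hb => by
  have hm := dd_mem 0 1 (by decide)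
  have h1 : φ ⟨_, hm.1⟩ ∈ image φ := mem_image.2 ⟨⟨_, hm.1⟩, EW_le hm, rfl⟩
  rw [hb, Subgroup.mem_bot, ← map_one φ] at h1
  have h2 := congrArg (fun a : H => (a : W).left 0) (h.inj h1)
  simp [dd] at h2

theorem main [Finite G] {φ : H →* G} (h : Emb φ) (S : Sylow 2 G) :
    (groupFusionSystem (S : Subgroup G)).autGroup (S : Subgroup G) = Cfsg.Inn ↥(S : Subgroup G) ∧
    (∀ T : Subgroup G, (groupFusionSystem (S : Subgroup G)).StronglyClosed T → T = ⊥ ∨ T = (S : Subgroup G)) ∧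
    (groupFusionSystem (S : Subgroup G)).IsSimple 2 := by
  haveI : Fact (Nat.Prime 2) := ⟨Nat.prime_two⟩
  obtain ⟨Q, hQ⟩ := (image_pGroup φ).exists_le_sylow
  have hQe : (Q : Subgroup G) = image φ := by
    by_contra hne
    have hlt : (image φ).subgroupOf Q < ⊤ := lt_top_iff_ne_top.2 fun e =>
      hne (le_antisymm (Subgroup.subgroupOf_eq_top.1 e) hQ)
    haveI := Q.2.isNilpotent
    refine (Group.normalizerCondition_of_isNilpotent (G := (Q : Subgroup G)) _ hlt).not_ge fun x hx => ?_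
    refine Subgroup.mem_subgroupOf.2 (image_self_normalizing h fun y hy => ?_)
    exact Subgroup.mem_subgroupOf.1 ((Subgroup.mem_normalizer_iff.1 hx ⟨y, hQ hy⟩).1 (Subgroup.mem_subgroupOf.2 hy))
  obtain ⟨g, rfl⟩ := MulAction.exists_smul_eq G Q S
  have hS : ((g • Q : Sylow 2 G) : Subgroup G) = image ((MulAut.conj g).toMonoidHom.comp φ) := by
    rw [image, ← Subgroup.map_map]
    show MulAut.conj g • (Q : Subgroup G) = _
    rw [hQe, image]
    rfl
  rw [hS]
  have h' := h.conj g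
  refine ⟨autGroup_eq h', stronglyClosed_eq h', isSimple_of_inn ?_ (image_ne_bot h')
    (autGroup_eq h').le (stronglyClosed_eq h')⟩
  rw [← hS]
  exact saturated_group (g • Q)

end Cfsg.Lib.OmegaSevenFus
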