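import Mathlib

/-!
Even signed permutations of seven points: the Sylow 2-subgroup `2⁶:D₈`.
-/

set_option autoImplicit false
set_option maxRecDepth 100000

namespace Cfsg.Lib.OmegaSevenFus

open Equiv SemidirectProduct

abbrev V : Type := Fin 7 → ℤˣ
abbrev P : Type := Perm (Fin 7)

/-- Permutation of the coordinates. -/
def act : P →* MulAut V where
  toFun σ :=
    { toFun := fun ε i => ε (σ⁻¹ i)
      invFun := fun ε i => ε (σ i)
      left_inv := fun ε => funext fun i => by simp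
      right_inv := fun ε => funext fun i => by simp
      map_mul' := fun _ _ => rfl }
  map_one' := MulEquiv.ext fun _ => rfl
  map_mul' _ _ := MulEquiv.ext fun _ => funext fun _ => rfl

@[simp] theorem act_apply (σ : P) (ε : V) (i : Fin 7) : act σ ε i = ε (σ⁻¹ i) := rfl

abbrev W : Type := V ⋊[act] P

/-- The product of the signs. -/
def tot : V →* ℤˣ where
  toFun ε := ∏ i, ε i
  map_one' := by simp
  map_mul' _ _ := Finset.prod_mul_distrib

theorem tot_act (σ : P) (ε : V) : tot (act σ ε) = tot ε :=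
  Fintype.prod_equiv σ⁻¹ _ _ fun _ => rfl

/-- Even signs and an even permutation. -/
def H : Subgroup W where
  carrier := {w | tot w.left = 1 ∧ Perm.sign w.right = 1}
  one_mem' := ⟨map_one _, map_one _⟩
  mul_mem' := fun {a b} ha hb => ⟨by rw [mul_left, map_mul, tot_act, ha.1, hb.1, one_mul],
    by rw [mul_right, map_mul, ha.2, hb.2, one_mul]⟩
  inv_mem' := fun {a} ha => ⟨by rw [inv_left, tot_act, map_inv, ha.1, inv_one],
    by rw [inv_right, map_inv, ha.2, inv_one]⟩

theorem mem_H {w : W} : w ∈ H ↔ tot w.left = 1 ∧ Perm.sign w.right = 1 := Iff.rfl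

/-- Decoding a table of values written in base eight. -/
def dec (n : ℕ) (i : Fin 7) : Fin 7 := ⟨n / 8 ^ (i : ℕ) % 8 % 7, Nat.mod_lt _ (by norm_num)⟩

/-- The tables of the eight elements of the dihedral group. -/
def code : Fin 8 → ℕ
  | 0 => 1754760 | 1 => 1724625 | 2 => 1725962 | 3 => 1753626
  | 4 => 1753171 | 5 => 1754305 | 6 => 1725507 | 7 => 1725080

/-- The index of the inverse. -/
def cinv : Fin 8 → Fin 8
  | 0 => 0 | 1 => 6 | 2 => 2 | 3 => 3 | 4 => 4 | 5 => 5 | 6 => 1 | 7 => 7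

theorem dec_cinv : ∀ k i, dec (code (cinv k)) (dec (code k) i) = i := by decide +kernel
theorem dec_cinv' : ∀ k i, dec (code k) (dec (code (cinv k)) i) = i := by decide +kernel

/-- The elements of the dihedral group. -/
def dP (k : Fin 8) : P := ⟨dec (code k), dec (code (cinv k)), dec_cinv k, dec_cinv' k⟩

theorem dP_mul' : ∀ k l : Fin 8, ∃ m, ∀ i, dec (code k) (dec (code l) i) = dec (code m) i := by decide +kernel

theorem dP_mul (k l : Fin 8) : ∃ m, dP k * dP l = dP m := (dP_mul' k l).imp fun _ h => Equiv.ext h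

theorem dP_inv (k : Fin 8) : (dP k)⁻¹ = dP (cinv k) := Equiv.ext fun _ => rfl

theorem dP_even : ∀ k, Perm.sign (dP k) = 1 := by decide +kernel

theorem dP_pow : ∀ k i, dP k (dP k (dP k (dP k i))) = i := by decide +kernel

theorem dP_zero : dP 0 = 1 := Equiv.ext (show ∀ i, dec (code 0) i = i by decide +kernel)

theorem dP_injective : ∀ k l, (∀ i, dec (code k) i = dec (code l) i) → k = l := by decide +kernel

/-- The dihedral group. -/
def D : Subgroup P where
  carrier := Set.range dP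
  one_mem' := ⟨0, dP_zero⟩
  mul_mem' := by
    rintro _ _ ⟨k, rfl⟩ ⟨l, rfl⟩
    obtain ⟨m, hm⟩ := dP_mul k l
    exact ⟨m, hm.symm⟩
  inv_mem' := by rintro _ ⟨k, rfl⟩; exact ⟨cinv k, (dP_inv k).symm⟩

theorem mem_D {x : P} : x ∈ D ↔ ∃ k, dP k = x := Iff.rfl

/-- The table of a permutation conjugating both generators into the group. -/
def cand (k : Fin 8) (a b c : Fin 7) : Fin 7 → Fin 7
  | 0 => a | 1 => dec (code k) a | 2 => dec (code k) (dec (code k) a)
  | 3 => dec (code k) (dec (code k) (dec (code k) a)) | 4 => b | 5 => dec (code k) b | 6 => c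

theorem cand_spec : ∀ k a b c, (∀ i, cand k a b c (dec (code 1) i) = dec (code k) (cand k a b c i)) →
    ∀ l : Fin 8, (∀ i, cand k a b c (dec (code 2) i) = dec (code l) (cand k a b c i)) →
    (∀ i j, cand k a b c i = cand k a b c j → i = j) →
    ∃ m, (∀ i, cand k a b c i = dec (code m) i) ∨ ∀ i, cand k a b c i = dec (code m) (swap 4 5 i) := by
  decide +kernel

theorem D_self_normalizing (x : P) (hx : Perm.sign x = 1) (h1 : x * dP 1 * x⁻¹ ∈ D) (h2 : x * dP 2 * x⁻¹ ∈ D) :
    x ∈ D := by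
  obtain ⟨k, hk⟩ := h1
  obtain ⟨l, hl⟩ := h2
  have ek : ∀ i, x (dec (code 1) i) = dec (code k) (x i) := fun i =>
    (Perm.congr_fun (show dP k * x = x * dP 1 by rw [hk]; group) i).symm
  have el : ∀ i, x (dec (code 2) i) = dec (code l) (x i) := fun i =>
    (Perm.congr_fun (show dP l * x = x * dP 2 by rw [hl]; group) i).symm
  have e : ∀ i, x i = cand k (x 0) (x 4) (x 6) i := by
    have g0 : x 1 = dec (code k) (x 0) := ek 0
    have g1 : x 2 = dec (code k) (x 1) := ek 1
    have g2 : x 3 = dec (code k) (x 2) := ek 2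
    have g4 : x 5 = dec (code k) (x 4) := ek 4
    intro i
    fin_cases i <;> simp [cand, g0, g1, g2, g4]
  obtain ⟨m, hm | hm⟩ := cand_spec k (x 0) (x 4) (x 6) (fun i => by rw [← e, ← e]; exact ek i) l
    (fun i => by rw [← e, ← e]; exact el i) (fun i j h => x.injective ((e i).trans (h.trans (e j).symm)))
  · exact ⟨m, Equiv.ext fun i => ((e i).trans (hm i)).symm⟩
  · have : x = dP m * swap 4 5 := Equiv.ext fun i => (e i).trans (hm i)
    rw [this, map_mul, dP_even, one_mul, Perm.sign_swap (by decide)] at hx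
    exact absurd hx (by decide)

/-- The Sylow 2-subgroup. -/
def SW : Subgroup W := H ⊓ D.comap rightHom

theorem mem_SW {w : W} : w ∈ SW ↔ w ∈ H ∧ ∃ k, dP k = w.right := Iff.rfl

/-- The even sign changes. -/
def EW : Subgroup W := H ⊓ (rightHom (φ := act)).ker

theorem mem_EW {w : W} : w ∈ EW ↔ tot w.left = 1 ∧ w.right = 1 := by
  constructor
  · exact fun h => ⟨h.1.1, h.2⟩
  · exact fun h => ⟨⟨h.1, by rw [h.2, map_one]⟩, h.2⟩

theorem EW_le : EW ≤ SW := fun w hw => mem_SW.2 ⟨hw.1, 0, dP_zero.trans (mem_EW.1 hw).2.symm⟩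

theorem EW_sq {w : W} (hw : w ∈ EW) : w * w = 1 := by
  refine SemidirectProduct.ext ?_ (by simp [(mem_EW.1 hw).2])
  rw [mul_left, (mem_EW.1 hw).2, map_one, MulAut.one_apply, one_left]
  exact funext fun i => Int.units_mul_self _

theorem SW_pow {w : W} (hw : w ∈ SW) : w ^ 2 ^ 3 = 1 := by
  have h4 : w ^ 4 ∈ EW := by
    obtain ⟨k, hk⟩ := (mem_SW.1 hw).2
    refine mem_EW.2 ⟨(pow_mem (mem_SW.1 hw).1 4).1, ?_⟩
    rw [← rightHom_eq_right, map_pow, rightHom_eq_right, ← hk]
    exact Equiv.ext fun i => by simpa [pow_succ] using dP_pow k i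
  rw [show (2 : ℕ) ^ 3 = 4 + 4 from rfl, pow_add]
  exact EW_sq h4

def evenFin : Finset V := Finset.univ.filter fun ε => tot ε = 1

theorem card_EW : Nat.card EW = 64 := by
  have e : EW ≃ {ε : V // ε ∈ evenFin} :=
    { toFun := fun w => ⟨w.1.left, by simp [evenFin, (mem_EW.1 w.2).1]⟩
      invFun := fun ε => ⟨inl ε.1, mem_EW.2 ⟨by simpa [evenFin] using ε.2, rfl⟩⟩
      left_inv := fun w => Subtype.ext (SemidirectProduct.ext rfl (mem_EW.1 w.2).2.symm)
      right_inv := fun ε => rfl }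
  rw [Nat.card_congr e, Nat.card_eq_fintype_card, Fintype.card_coe]
  decide +kernel

/-- The even sign vectors fixed by some elements of the dihedral group. -/
def fixFin (K : Finset (Fin 8)) : Finset V := evenFin.filter fun ε => ∀ k ∈ K, ∀ i, ε (dec (code k) i) = ε i

theorem elementary_count : ∀ K : Finset (Fin 8), 0 ∈ K → (∀ k ∈ K, ∀ i, dec (code k) (dec (code k) i) = i) →
    (∀ k ∈ K, ∀ l ∈ K, ∀ i, dec (code k) (dec (code l) i) = dec (code l) (dec (code k) i)) →
    64 ≤ K.card * (fixFin K).card → K = {0} := by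
  decide +kernel

/-- `EW` is the only elementary abelian subgroup of order 64 in `SW`. -/
theorem elementary_eq (A : Subgroup W) (hA : A ≤ SW) (hc : Nat.card A = 64)
    (hsq : ∀ a ∈ A, a * a = 1) : A = EW := by
  classical
  have hcomm : ∀ a ∈ A, ∀ b ∈ A, a * b = b * a := fun a ha b hb => by
    have h := hsq _ (mul_mem ha hb)
    have i1 : a⁻¹ = a := inv_eq_of_mul_eq_one_right (hsq a ha)
    have i2 : b⁻¹ = b := inv_eq_of_mul_eq_one_right (hsq b hb)
    have := inv_eq_of_mul_eq_one_right h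
    rw [mul_inv_rev, i1, i2] at this
    exact this.symm
  let K : Finset (Fin 8) := Finset.univ.filter fun k => ∃ a ∈ A, a.right = dP k
  have hK : ∀ {k}, k ∈ K ↔ ∃ a ∈ A, a.right = dP k := by simp [K]
  have key : K = {0} := by
    refine elementary_count K (hK.2 ⟨1, one_mem A, dP_zero.symm⟩) ?_ ?_ ?_
    · intro k hk i
      obtain ⟨a, ha, e⟩ := hK.1 hk
      have h := congrArg (fun w : W => w.right i) (hsq a ha)
      simp only [mul_right, one_right, e] at h
      exact h
    · intro k hk l hl i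
      obtain ⟨a, ha, e⟩ := hK.1 hk
      obtain ⟨b, hb, e'⟩ := hK.1 hl
      have h := congrArg (fun w : W => w.right i) (hcomm a ha b hb)
      simp only [mul_right, e, e'] at h
      exact h
    · -- sections of the projection
      have hidx : ∀ a : A, ∃ k : K, a.1.right = dP k.1 := fun a => by
        obtain ⟨k, hk⟩ := (mem_SW.1 (hA a.2)).2
        exact ⟨⟨k, hK.2 ⟨a, a.2, hk.symm⟩⟩, hk.symm⟩
      choose idx hidx using hidx
      have hsec : ∀ k : K, ∃ a ∈ A, a.right = dP k.1 := fun k => hK.1 k.2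
      choose sec hsA hsr using hsec
      have hfix : ∀ a : A, ((sec (idx a))⁻¹ * a.1).left ∈ fixFin K := fun a => by
        set e := (sec (idx a))⁻¹ * a.1 with he
        have heA : e ∈ A := mul_mem (inv_mem (hsA _)) a.2
        have her : e.right = 1 := by rw [he, mul_right, inv_right, hsr, hidx a]; simp
        refine Finset.mem_filter.2 ⟨by simp [evenFin, (mem_SW.1 (hA heA)).1.1], fun k hk i => ?_⟩
        obtain ⟨b, hb, eb⟩ := hK.1 hk
        have h := congrArg (fun w : W => w.left (dP k i)) (hcomm b hb e heA)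
        simp only [mul_left, her, map_one, MulAut.one_apply, Pi.mul_apply, act_apply, eb] at h
        rw [mul_comm, show (dP k)⁻¹ (dP k i) = i from (dP k).symm_apply_apply i] at h
        exact (mul_right_cancel h).symm
      have hinj : Function.Injective fun a : A => ((idx a, ⟨_, hfix a⟩) : K × fixFin K) := by
        intro a b h
        simp only [Prod.mk.injEq, Subtype.mk.injEq] at h
        obtain ⟨h1, h2⟩ := h
        rw [h1] at h2
        refine Subtype.ext (mul_left_cancel (a := (sec (idx b))⁻¹) (SemidirectProduct.ext h2 ?_))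
        simp only [mul_right, hidx a, hidx b, h1]
      have h := Nat.card_le_card_of_injective _ hinj
      rw [hc, Nat.card_prod, Nat.card_eq_fintype_card, Nat.card_eq_fintype_card, Fintype.card_coe,
        Fintype.card_coe] at h
      exact h
  have hle : A ≤ EW := fun a ha => mem_EW.2 ⟨(mem_SW.1 (hA ha)).1.1, by
    obtain ⟨k, hk⟩ := (mem_SW.1 (hA ha)).2
    have := hK.2 ⟨a, ha, hk.symm⟩
    rw [key, Finset.mem_singleton] at this
    rw [← hk, this, dP_zero]⟩
  haveI : Finite EW := Finite.of_injective (fun w : EW => (w.1.left, w.1.right)) fun a b h =>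
    Subtype.ext (SemidirectProduct.ext (congrArg Prod.fst h) (congrArg Prod.snd h))
  exact Subgroup.eq_of_le_of_card_ge hle (by rw [hc, card_EW])

theorem dP_mem (k : Fin 8) : (inr (dP k) : W) ∈ SW := mem_SW.2 ⟨⟨map_one _, dP_even k⟩, k, rfl⟩

theorem right_of_normalizes {w : W} (hw : w ∈ H) (h : ∀ s ∈ SW, w * s * w⁻¹ ∈ SW) : w ∈ SW :=
  mem_SW.2 ⟨hw, D_self_normalizing _ hw.2 (mem_SW.1 (h _ (dP_mem 1))).2 (mem_SW.1 (h _ (dP_mem 2))).2⟩

/-- The sign change in two places. -/
def dd (a b : Fin 7) : V := fun i => if i = a ∨ i = b then -1 else 1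

theorem tot_dd : ∀ a b : Fin 7, a ≠ b → tot (dd a b) = 1 := by decide +kernel

theorem dd_mem (a b : Fin 7) (h : a ≠ b) : (inl (dd a b) : W) ∈ EW := mem_EW.2 ⟨tot_dd a b h, rfl⟩

theorem mem_EW_of_commute {w : W} (hw : w ∈ SW) (h : ∀ e ∈ EW, w * e = e * w) : w ∈ EW := by
  refine mem_EW.2 ⟨hw.1.1, Equiv.ext fun a => ?_⟩
  rw [Perm.one_apply]
  by_contra hne
  obtain ⟨c, hc1, hc2⟩ : ∃ c : Fin 7, c ≠ a ∧ c ≠ w.right a :=
    (show ∀ x y : Fin 7, ∃ c : Fin 7, c ≠ x ∧ c ≠ y by decide) a (w.right a)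
  have e := congrArg (fun u : W => u.left (w.right a)) (h _ (dd_mem a c hc1.symm))
  simp [mul_left, left_inl, right_inl, dd, hne, hc2.symm, mul_comm] at e

theorem exists_neg : ∀ ε : V, tot ε = 1 → (∀ i, ε i = -1 ∨ ∀ j, ε j = 1) → ∀ i, ε i = 1 := by decide +kernel

theorem pick3 : ∀ i j : Fin 7, ∃ a b c : Fin 7, a ≠ b ∧ b ≠ c ∧ a ≠ c ∧
    a ≠ i ∧ a ≠ j ∧ b ≠ i ∧ b ≠ j ∧ c ≠ i ∧ c ≠ j := by decide +kernel

/-- A swap product fixing the parity. -/
theorem exists_step {ε : V} (ht : tot ε = 1) (h1 : ε ≠ 1) : ∃ i j : Fin 7, ∃ σ : P,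
    i ≠ j ∧ Perm.sign σ = 1 ∧ ε * act σ ε = dd i j := by
  obtain ⟨i, hi⟩ : ∃ i, ε i = -1 := by
    by_contra hc
    push Not at hc
    exact h1 (funext fun i => (Int.units_eq_one_or _).resolve_right (hc i))
  obtain ⟨j, hj⟩ : ∃ j, ε j = 1 := by
    by_contra hc
    push Not at hc
    have hall : ∀ k, ε k = -1 := fun k => (Int.units_eq_one_or _).resolve_left (hc k)
    exact hc i (exists_neg ε ht (fun k => Or.inl (hall k)) i)
  have hij : i ≠ j := fun e => by rw [e, hj] at hi; exact absurd hi (by decide)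
  obtain ⟨a, b, c, hab, hbc, hac, hai, haj, hbi, hbj, hci, hcj⟩ := pick3 i j
  obtain ⟨k, l, hkl, hki, hkj, hli, hlj, he⟩ : ∃ k l, k ≠ l ∧ k ≠ i ∧ k ≠ j ∧ l ≠ i ∧ l ≠ j ∧ ε k = ε l := by
    rcases Int.units_eq_one_or (ε a) with ea | ea <;> rcases Int.units_eq_one_or (ε b) with eb | eb <;>
      rcases Int.units_eq_one_or (ε c) with ec | ec
    all_goals first
      | exact ⟨a, b, hab, hai, haj, hbi, hbj, ea.trans eb.symm⟩
      | exact ⟨a, c, hac, hai, haj, hci, hcj, ea.trans ec.symm⟩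
      | exact ⟨b, c, hbc, hbi, hbj, hci, hcj, eb.trans ec.symm⟩
  refine ⟨i, j, swap i j * swap k l, hij, by rw [map_mul, Perm.sign_swap hij, Perm.sign_swap hkl]; rfl, ?_⟩
  funext x
  show ε x * ε ((swap i j * swap k l)⁻¹ x) = dd i j x
  rw [mul_inv_rev, swap_inv, swap_inv, Perm.mul_apply]
  by_cases hxi : x = i
  · subst hxi
    rw [swap_apply_left, swap_apply_of_ne_of_ne hkj.symm hlj.symm, hi, hj]
    simp [dd]
  by_cases hxj : x = j
  · subst hxj
    rw [swap_apply_right, swap_apply_of_ne_of_ne hki.symm hli.symm, hi, hj]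
    simp [dd]
  rw [swap_apply_of_ne_of_ne hxi hxj]
  have hd : dd i j x = 1 := by simp [dd, hxi, hxj]
  rw [hd]
  rcases eq_or_ne x k with rfl | hxk
  · rw [swap_apply_left, ← he]; exact Int.units_mul_self _
  rcases eq_or_ne x l with rfl | hxl
  · rw [swap_apply_right, he]; exact Int.units_mul_self _
  rw [swap_apply_of_ne_of_ne hxk hxl]
  exact Int.units_mul_self _

/-- The alternating group is transitive on pairs. -/
theorem move_pair {i j a b : Fin 7} (hij : i ≠ j) (hab : a ≠ b) :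
    ∃ σ : P, Perm.sign σ = 1 ∧ act σ (dd i j) = dd a b := by
  set σ₀ : P := swap (swap i a j) b * swap i a
  have hi : σ₀ i = a := by
    have : swap i a j ≠ a := fun h => hij ((swap i a).injective (h.trans (swap_apply_left i a).symm)).symm
    show swap (swap i a j) b (swap i a i) = a
    rw [swap_apply_left, swap_apply_of_ne_of_ne this.symm hab]
  have hj : σ₀ j = b := swap_apply_left _ _
  have key : ∀ σ : P, (σ i = a ∧ σ j = b) ∨ (σ i = b ∧ σ j = a) → act σ (dd i j) = dd a b := by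
    intro σ hσ
    funext c
    obtain ⟨d, rfl⟩ := σ.surjective c
    show dd i j (σ⁻¹ (σ d)) = dd a b (σ d)
    rw [show σ⁻¹ (σ d) = d from σ.symm_apply_apply d]
    rcases hσ with ⟨rfl, rfl⟩ | ⟨rfl, rfl⟩ <;> simp [dd, or_comm]
  rcases Int.units_eq_one_or (Perm.sign σ₀) with h | h
  · exact ⟨σ₀, h, key _ (Or.inl ⟨hi, hj⟩)⟩
  · refine ⟨swap a b * σ₀, by rw [map_mul, h, Perm.sign_swap hab]; rfl, key _ (Or.inr ?_)⟩
    exact ⟨(congrArg (swap a b) hi).trans (swap_apply_left a b), (congrArg (swap a b) hj).trans (swap_apply_right a b)⟩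

theorem even_decomp : ∀ ε : V, tot ε = 1 → ∀ i,
    ε i = (∏ k : Fin 6, if ε k.castSucc = -1 then dd k.castSucc 6 i else 1) := by
  decide +kernel

/-- The element of `EW` moved by fusion. -/
def eW : W := inl (dd 0 1)

/-- Its image outside `EW`. -/
def tW : W := inr (dP 5)

theorem D_generated' : ∀ k : Fin 8, ∃ n : Fin 4 × Fin 2, ∀ i,
    dec (code k) i = (fun j => dec (code 5) (dec (code 2) j))^[(n.1 : ℕ)] ((dec (code 2))^[(n.2 : ℕ)] i) := by
  decide +kernel

theorem D_generated (k : Fin 8) : ∃ n : ℕ × ℕ, dP k = (dP 5 * dP 2) ^ n.1 * dP 2 ^ n.2 := by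
  obtain ⟨n, hn⟩ := D_generated' k
  refine ⟨(n.1, n.2), Equiv.ext fun i => ?_⟩
  rw [Perm.mul_apply, ← Perm.iterate_eq_pow, ← Perm.iterate_eq_pow]
  exact hn i

/-- A permutation conjugating one generator into the other. -/
def sig : P := ⟨dec 989968, dec 1420384, by decide +kernel, by decide +kernel⟩

theorem sig_even : Perm.sign sig = 1 := by decide +kernel

theorem sig_conj : sig * dP 5 * sig⁻¹ = dP 2 :=
  Equiv.ext (show ∀ i, dec 989968 (dec (code 5) (dec 1420384 i)) = dec (code 2) i by decide +kernel)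

/-- No proper nontrivial subgroup is closed under conjugation and the fusion of `eW` to `tW`. -/
theorem closed_eq (A : Subgroup W) (hA : A ≤ SW)
    (hcl : ∀ w ∈ H, ∀ a ∈ A, w * a * w⁻¹ ∈ SW → w * a * w⁻¹ ∈ A) (hfus : eW ∈ A → tW ∈ A)
    {z : W} (hz : z ∈ A) (hz1 : z ≠ 1) (hzc : ∀ e ∈ EW, z * e = e * z) : SW ≤ A := by
  have hzE := mem_EW_of_commute (hA hz) hzc
  have hcE : ∀ σ : P, Perm.sign σ = 1 → ∀ ε : V, inl ε ∈ A → tot ε = 1 → inl (act σ ε) ∈ A := by
    intro σ hσ ε hε ht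
    have h := hcl (inr σ) ⟨map_one _, hσ⟩ _ hε
    rw [← map_inv, ← inl_aut] at h
    exact h (EW_le (mem_EW.2 ⟨(tot_act σ ε).trans ht, rfl⟩))
  have hzl : z = inl z.left := SemidirectProduct.ext rfl (mem_EW.1 hzE).2
  have ht := (mem_EW.1 hzE).1
  have hε1 : z.left ≠ 1 := fun h => hz1 (by rw [hzl, h, map_one])
  have hzA : inl z.left ∈ A := by rw [← hzl]; exact hz
  obtain ⟨i, j, σ, hij, hs, hd⟩ := exists_step ht hε1
  have hd0 : inl (dd i j) ∈ A := by
    rw [← hd, map_mul]; exact mul_mem hzA (hcE _ hs _ hzA ht)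
  have hdd : ∀ a b, a ≠ b → inl (dd a b) ∈ A := by
    intro a b hab
    obtain ⟨τ, hτ, hτ'⟩ := move_pair hij hab
    rw [← hτ']
    exact hcE _ hτ _ hd0 (tot_dd i j hij)
  have hE : EW ≤ A := by
    intro w hw
    have hp : (∏ k : Fin 6, if w.left k.castSucc = -1 then dd k.castSucc 6 else 1) ∈ A.comap (inl : V →* W) := by
      refine prod_mem fun k _ => ?_
      split_ifs
      · exact hdd _ _ (Fin.castSucc_lt_last k).ne
      · exact one_mem _
    have he : (∏ k : Fin 6, if w.left k.castSucc = -1 then dd k.castSucc 6 else 1) = w.left := funext fun i => by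
      rw [Finset.prod_apply, even_decomp _ (mem_EW.1 hw).1 i]
      exact Finset.prod_congr rfl fun k _ => by split_ifs <;> rfl
    rw [he] at hp
    rw [show w = inl w.left from SemidirectProduct.ext rfl (mem_EW.1 hw).2]
    exact hp
  have htA : tW ∈ A := hfus (hE (dd_mem 0 1 (by decide)))
  have hcsA : (inr (dP 2) : W) ∈ A := by
    have h := hcl (inr sig) ⟨map_one _, sig_even⟩ _ htA
    rw [tW, ← map_mul, ← map_inv, ← map_mul, sig_conj] at h
    exact h (dP_mem 2)
  intro w hw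
  obtain ⟨k, hk⟩ := (mem_SW.1 hw).2
  obtain ⟨n, hn⟩ := D_generated k
  rw [← inl_left_mul_inr_right w]
  refine mul_mem (hE (mem_EW.2 ⟨hw.1.1, rfl⟩)) ?_
  rw [← hk, hn, map_mul, map_pow, map_pow, map_mul]
  exact mul_mem (pow_mem (mul_mem htA hcsA) _) (pow_mem hcsA _)

end Cfsg.Lib.OmegaSevenFus
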