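import Cfsg.Agent.Fusion.OmegaSeven.Abstract
import Cfsg.Agent.Classical.Orth.StdForms
import Cfsg.Agent.Known.OmegaClasses
import Cfsg.Agent.Known.OrthSim.Main
import Cfsg.Agent.Known.FormNormal

/-!
The signed permutations of an orthonormal frame in `Ω₇(q)`, `q ≡ ±3 (mod 8)`.
-/

set_option autoImplicit false
set_option linter.unusedSectionVars false
set_option linter.style.haveILetI false

namespace Cfsg.Lib.OmegaSevenFus

open Matrix Equiv SemidirectProduct Cfsg.Lib.Classical Cfsg.Lib.Classical.Refl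

universe u

abbrev I7 : Type := Unit ⊕ (Fin 3 ⊕ Fin 3)

variable {F : Type u} [Field F]

/-- An orthonormal frame up to a common scalar `-1`. -/
structure Frame7 (Q : QuadraticForm F (I7 → F)) where
  f : Fin 7 → I7 → F
  val : ∀ i, Q (f i) = -1
  orth : ∀ i j, i ≠ j → QuadraticMap.polar (⇑Q) (f i) (f j) = 0

theorem exists_frame7 [Fintype F] : Nonempty (Frame7 (oddForm 3 F)) := by
  obtain ⟨a, b, hab⟩ : ∃ a b : F, a ^ 2 + b ^ 2 = -1 := by
    obtain ⟨p, hp⟩ := CharP.exists F
    haveI := hp
    haveI : NeZero p := ⟨CharP.char_ne_zero_of_finite F p⟩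
    obtain ⟨x, y, h⟩ := CharP.sq_add_sq F p (-1)
    exact ⟨(x : F), (y : F), by simpa using h⟩
  let V' : Unit → (Fin 3 → F) → (Fin 3 → F) → F → I7 → F := fun _ x y e => Sum.elim (fun _ => e) (Sum.elim x y)
  let f : Fin 7 → I7 → F := ![V' () ![b, 0, 0] ![b, 0, 0] a, V' () ![a, 0, 0] ![a, 0, 0] (-b),
    V' () ![0, a, b] ![0, a, b] 0, V' () ![0, -b, a] ![0, -b, a] 0,
    V' () ![1, 0, 0] ![-1, 0, 0] 0, V' () ![0, 1, 0] ![0, -1, 0] 0, V' () ![0, 0, 1] ![0, 0, -1] 0]
  refine ⟨⟨f, fun i => ?_, fun i j hij => ?_⟩⟩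
  · fin_cases i <;> simp [f, V', oddForm_coe, Cfsg.quadFormOdd, Fin.sum_univ_three] <;>
      linear_combination hab
  · fin_cases i <;> fin_cases j <;> first
      | exact absurd rfl hij
      | (simp [f, V', QuadraticMap.polar, oddForm_coe, Cfsg.quadFormOdd, Fin.sum_univ_three] <;> ring)

variable [Finite F] {Q : QuadraticForm F (I7 → F)} (h2 : (2 : F) ≠ 0) (B : Frame7 Q)

theorem polar_ff (i : Fin 7) : QuadraticMap.polar (⇑Q) (B.f i) (B.f i) = -2 := by
  rw [QuadraticMap.polar_self, B.val]; norm_num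

include h2 in
theorem indep7 : LinearIndependent F B.f := by
  rw [Fintype.linearIndependent_iff]
  intro c hc i
  have h := congrArg (fun v => QuadraticMap.polarBilin Q (B.f i) v) hc
  simp only [map_sum, map_smul, map_zero, QuadraticMap.polarBilin_apply_apply, smul_eq_mul] at h
  rw [Finset.sum_eq_single i (fun j _ hji => by rw [B.orth i j hji.symm, mul_zero])
    (fun h => absurd (Finset.mem_univ i) h), polar_ff] at h
  exact (mul_eq_zero.1 h).resolve_right (neg_ne_zero.2 h2)

/-- The basis of the frame. -/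
noncomputable def basis7 : Module.Basis (Fin 7) F (I7 → F) :=
  Module.Basis.mk (indep7 h2 B) ((indep7 h2 B).span_eq_top_of_card_eq_finrank' (by
    rw [Module.finrank_fintype_fun_eq_card]; rfl)).ge

theorem basis7_apply (i : Fin 7) : basis7 h2 B i = B.f i := by
  rw [basis7, Module.Basis.mk_apply]

theorem ext7 {g h : Cfsg.isometryGroup F (⇑Q)} (e : ∀ i, mat Q g *ᵥ B.f i = mat Q h *ᵥ B.f i)
    (h2 : (2 : F) ≠ 0) : g = h := by
  refine ext_mulVec Q fun v => ?_
  rw [← Matrix.toLin'_apply, ← Matrix.toLin'_apply]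
  refine LinearMap.congr_fun ((basis7 h2 B).ext fun i => ?_) v
  rw [basis7_apply, Matrix.toLin'_apply, Matrix.toLin'_apply]
  exact e i

theorem mat_mul (g h : Cfsg.isometryGroup F (⇑Q)) (v : I7 → F) : mat Q (g * h) *ᵥ v = mat Q g *ᵥ (mat Q h *ᵥ v) :=
  mulVec_mul Q g h v

theorem mat_one (v : I7 → F) : mat Q 1 *ᵥ v = v := by simp [mat]

include h2 in
/-- An isometry through the images of the frame. -/
theorem exists_isometry (B : Frame7 Q) (B' : Frame7 Q) :
    ∃ g : Cfsg.isometryGroup F (⇑Q), ∀ i, mat Q g *ᵥ B.f i = B'.f i := by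
  let L : Module.End F (I7 → F) := (basis7 h2 B).constr F B'.f
  have hL : ∀ i, L (B.f i) = B'.f i := fun i => by
    rw [← basis7_apply h2 B i]; exact (basis7 h2 B).constr_basis F _ i
  have hiso : ∀ v, Q (L v) = Q v := fun v => by
    refine FormNormal.eq_of_basis (Q.comp L) Q (basis7 h2 B) (fun i => ?_) (fun i j => ?_) v
    · rw [QuadraticMap.comp_apply, basis7_apply, hL, B'.val, B.val]
    · have e : QuadraticMap.polar (⇑(Q.comp L)) (basis7 h2 B i) (basis7 h2 B j) =
          QuadraticMap.polar (⇑Q) (L (basis7 h2 B i)) (L (basis7 h2 B j)) := by simp [QuadraticMap.polar]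
      rw [e, basis7_apply, basis7_apply, hL, hL]
      rcases eq_or_ne i j with rfl | hij
      · rw [polar_ff, polar_ff]
      · rw [B.orth i j hij, B'.orth i j hij]
  let L' : Module.End F (I7 → F) := (basis7 h2 B').constr F B.f
  have hL' : ∀ i, L' (B'.f i) = B.f i := fun i => by
    rw [← basis7_apply h2 B' i]; exact (basis7 h2 B').constr_basis F _ i
  have h1 : L * L' = 1 := (basis7 h2 B').ext fun i => by
    rw [basis7_apply, Module.End.mul_apply, hL', hL]; rfl
  have h1' : L' * L = 1 := (basis7 h2 B).ext fun i => by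
    rw [basis7_apply, Module.End.mul_apply, hL, hL']; rfl
  let T := LinearMap.toMatrixAlgEquiv' (R := F) (n := I7)
  refine ⟨⟨⟨T L, T L', by rw [← map_mul, h1, map_one], by rw [← map_mul, h1', map_one]⟩,
    (mem_iff Q).2 fun v => ?_⟩, fun i => ?_⟩
  · show Q (T L *ᵥ v) = Q v
    rw [← Matrix.toLinAlgEquiv'_apply, Matrix.toLinAlgEquiv'_toMatrixAlgEquiv']
    exact hiso v
  · show T L *ᵥ B.f i = _
    rw [← Matrix.toLinAlgEquiv'_apply, Matrix.toLinAlgEquiv'_toMatrixAlgEquiv']
    exact hL i

theorem unit_sq (s : ℤˣ) : ((s : ℤ) : F) * ((s : ℤ) : F) = 1 := by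
  rcases Int.units_eq_one_or s with e | e <;> simp [e]

/-- The frame moved by a signed permutation. -/
def moved (w : W) : Frame7 Q where
  f i := ((w.left (w.right i) : ℤ) : F) • B.f (w.right i)
  val i := by rw [QuadraticMap.map_smul, smul_eq_mul, unit_sq, one_mul, B.val]
  orth i j h := by
    rw [QuadraticMap.polar_smul_left, QuadraticMap.polar_smul_right, B.orth _ _ (w.right.injective.ne h),
      smul_zero, smul_zero]

/-- The monomial group. -/
noncomputable def mono : W →* Cfsg.isometryGroup F (⇑Q) :=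
  MonoidHom.mk' (fun w => (exists_isometry h2 B (moved B w)).choose) fun v w => by
    refine ext7 B (fun i => ?_) h2
    rw [mat_mul, (exists_isometry h2 B (moved B (v * w))).choose_spec i,
      (exists_isometry h2 B (moved B w)).choose_spec i]
    show _ = mat Q _ *ᵥ (((w.left (w.right i) : ℤ) : F) • B.f (w.right i))
    rw [Matrix.mulVec_smul, (exists_isometry h2 B (moved B v)).choose_spec]
    simp only [moved, smul_smul, mul_left, mul_right, Pi.mul_apply, act_apply, Perm.mul_apply]
    rw [show (v.right)⁻¹ (v.right (w.right i)) = w.right i from v.right.symm_apply_apply _, Units.val_mul,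
      Int.cast_mul, mul_comm]

theorem mono_apply (w : W) (i : Fin 7) :
    mat Q (mono h2 B w) *ᵥ B.f i = ((w.left (w.right i) : ℤ) : F) • B.f (w.right i) :=
  (exists_isometry h2 B (moved B w)).choose_spec i

include h2 in
theorem frame_ne (B : Frame7 Q) (i : Fin 7) : B.f i ≠ 0 := fun e => by
  have := B.val i; rw [e, QuadraticMap.map_zero] at this; exact neg_ne_zero.2 one_ne_zero this.symm

theorem mono_injective : Function.Injective (mono h2 B) := by
  refine (injective_iff_map_eq_one _).2 fun w hw => ?_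
  have h : ∀ i, ((w.left (w.right i) : ℤ) : F) • B.f (w.right i) = B.f i := fun i => by
    rw [← mono_apply h2, hw, mat_one]
  have hp : w.right = 1 := Equiv.ext fun i => by
    by_contra hne
    have := congrArg (fun v => QuadraticMap.polar (⇑Q) (B.f i) v) (h i)
    simp only [QuadraticMap.polar_smul_right, B.orth i (w.right i) (Ne.symm hne), smul_zero, polar_ff] at this
    exact neg_ne_zero.2 h2 this.symm
  refine SemidirectProduct.ext (funext fun i => ?_) hp
  have := h i
  rw [hp, Perm.one_apply] at this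
  rcases Int.units_eq_one_or (w.left i) with e | e
  · exact e
  · rw [e] at this
    simp only [Units.val_neg, Units.val_one, Int.cast_neg, Int.cast_one, neg_smul, one_smul] at this
    have h3 : (2 : F) • B.f i = 0 := by rw [two_smul]; nth_rw 1 [← this]; simp
    exact absurd ((smul_eq_zero.1 h3).resolve_left h2) (frame_ne h2 B i)

theorem val_ne (i : Fin 7) : Q (B.f i) ≠ 0 := by rw [B.val]; exact neg_ne_zero.2 one_ne_zero

theorem val_sub {i j : Fin 7} (h : i ≠ j) : Q (B.f i - B.f j) = -2 := by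
  rw [sub_eq_add_neg, QuadraticMap.map_add (f := Q), ← neg_one_smul F (B.f j), QuadraticMap.map_smul,
    QuadraticMap.polar_smul_right, B.orth i j h, B.val, B.val]
  norm_num

include h2 in
theorem val_sub_ne {i j : Fin 7} (h : i ≠ j) : Q (B.f i - B.f j) ≠ 0 := by
  rw [val_sub B h]; exact neg_ne_zero.2 h2

theorem mono_single (i : Fin 7) :
    mono h2 B (inl (Pi.mulSingle i (-1))) = refl Q (B.f i) (val_ne B i) := by
  refine ext7 B (fun j => ?_) h2
  rw [mono_apply, mat, Refl.coe_refl, right_inl, left_inl, Perm.one_apply]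
  rcases eq_or_ne j i with rfl | hj
  · rw [Refl.self Q _ (val_ne B j), Pi.mulSingle_eq_same]; simp
  · rw [Refl.fix Q _ _ (B.orth i j hj.symm), Pi.mulSingle_eq_of_ne hj]; simp

theorem mono_swap {i j : Fin 7} (h : i ≠ j) :
    mono h2 B (inr (swap i j)) = refl Q (B.f i - B.f j) (val_sub_ne h2 B h) := by
  refine ext7 B (fun k => ?_) h2
  rw [mono_apply, mat, Refl.coe_refl, right_inr, left_inr, Refl.mulVec_eq, val_sub B h,
    QuadraticMap.polar_sub_left]
  simp only [Pi.one_apply, Units.val_one, Int.cast_one, one_smul]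
  rcases eq_or_ne k i with rfl | hki
  · rw [swap_apply_left, polar_ff, B.orth j k h.symm, sub_zero,
      inv_mul_cancel₀ (neg_ne_zero.2 h2), one_smul, sub_sub_cancel]
  rcases eq_or_ne k j with rfl | hkj
  · rw [swap_apply_right, polar_ff, B.orth i k h, zero_sub, neg_neg]
    rw [show ((-2 : F))⁻¹ * 2 = -1 by field_simp]
    simp
  rw [swap_apply_of_ne_of_ne hki hkj, B.orth i k (Ne.symm hki), B.orth j k (Ne.symm hkj)]
  simp

/-- The endomorphism of signs sending `-1` to `a`. -/
def psi (a : ℤˣ) : ℤˣ →* ℤˣ := if a = 1 then 1 else MonoidHom.id _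

theorem psi_neg : ∀ a : ℤˣ, psi a (-1) = a := by decide

theorem signs_hom_ext {χ χ' : ℤˣ →* ℤˣ} (h : χ (-1) = χ' (-1)) (s : ℤˣ) : χ s = χ' s := by
  rcases Int.units_eq_one_or s with e | e <;> rw [e]
  · rw [map_one, map_one]
  · exact h

theorem signed_perm_hom (χ : W →* ℤˣ) (α β : ℤˣ) (hα : ∀ i, χ (inl (Pi.mulSingle i (-1))) = α)
    (hβ : ∀ i j, i ≠ j → χ (inr (swap i j)) = β) (w : W) :
    χ w = psi α (tot w.left) * psi β (Perm.sign w.right) := by
  have h1 : ∀ ε : V, χ (inl ε) = psi α (tot ε) := by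
    intro ε
    refine DFunLike.congr_fun (f := χ.comp inl) (g := (psi α).comp tot) ?_ ε
    refine MonoidHom.functions_ext _ _ _ fun i s => ?_
    refine signs_hom_ext (χ := (χ.comp inl).comp (MonoidHom.mulSingle (fun _ : Fin 7 => ℤˣ) i))
      (χ' := ((psi α).comp tot).comp (MonoidHom.mulSingle (fun _ : Fin 7 => ℤˣ) i)) ?_ s
    show χ (inl (Pi.mulSingle i (-1))) = psi α (∏ k, (Pi.mulSingle i (-1 : ℤˣ) : V) k)
    rw [hα, Fintype.prod_pi_mulSingle', psi_neg]
  have h2 : ∀ π : P, χ (inr π) = psi β (Perm.sign π) := by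
    intro π
    induction π using Perm.swap_induction_on with
    | one => simp
    | swap_mul π i j hij ih =>
      rw [map_mul, map_mul, map_mul, map_mul, ih, hβ i j hij, Perm.sign_swap hij, psi_neg]
  conv_lhs => rw [← inl_left_mul_inr_right w]
  rw [map_mul, h1, h2]

theorem sign_table : ∀ a b p s : ℤˣ, a ≠ b →
    (psi (-1) p * psi (-1) s = 1 ∧ psi a p * psi b s = 1 ↔ p = 1 ∧ s = 1) := by decide

theorem class_table : ∀ a b d σ : ℤˣ, a ≠ b → ∃ i j : Bool,
    d = (if i then -1 else 1) * (if j then -1 else 1) ∧ σ = (if i then a else 1) * (if j then b else 1) := by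
  decide

section Fin

variable [Fintype F] [DecidableEq F] (hQ : (QuadraticMap.polarBilin Q).Nondegenerate) (hns : ¬ IsSquare (2 : F))

include h2 hQ hns

theorem omega_iff7 (g : Cfsg.isometryGroup F (⇑Q)) :
    g ∈ Cfsg.Omega F (⇑Q) ↔ dickson Q hQ g = 1 ∧ spin Q g = 1 := by
  rw [mem_omega_iff Q h2 hQ (by decide)]
  refine and_congr_left' ?_
  rw [Units.ext_iff, detHom, MonoidHom.comp_apply, Matrix.GeneralLinearGroup.val_det_apply]
  show ((g : Matrix.GeneralLinearGroup I7 F) : Matrix I7 I7 F).det = 1 ↔ _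
  rw [OmegaCls.det_dickson h2 hQ]
  rcases Int.units_eq_one_or (dickson Q hQ g) with e | e <;> rw [e]
  · simp
  · simp only [Units.val_neg, Units.val_one, Int.cast_neg, Int.cast_one]
    exact ⟨fun h => absurd (by linear_combination -h : (2 : F) = 0) h2, fun h => absurd h (by decide)⟩

theorem spin_ne (B : Frame7 Q) : spin Q (refl Q (B.f 0) (val_ne B 0)) ≠
    spin Q (refl Q (B.f 0 - B.f 1) (val_sub_ne h2 B (by decide))) := fun h => hns (by
  have := (spin_eq_iff Q h2 hQ (by decide) (val_ne B 0) (val_sub_ne h2 B (by decide))).1 h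
  rwa [B.val, val_sub B (by decide), neg_mul_neg, one_mul] at this)

theorem spin_single (B : Frame7 Q) (i : Fin 7) :
    spin Q (mono h2 B (inl (Pi.mulSingle i (-1)))) = spin Q (refl Q (B.f 0) (val_ne B 0)) := by
  rw [mono_single]
  exact (spin_eq_iff Q h2 hQ (by decide) _ _).2 (by rw [B.val, B.val]; exact ⟨1, by ring⟩)

theorem spin_swap (B : Frame7 Q) (i j : Fin 7) (h : i ≠ j) :
    spin Q (mono h2 B (inr (swap i j))) = spin Q (refl Q (B.f 0 - B.f 1) (val_sub_ne h2 B (by decide))) := by
  rw [mono_swap h2 B h]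
  exact (spin_eq_iff Q h2 hQ (by decide) _ _).2 (by rw [val_sub B h, val_sub B (by decide)]; exact ⟨2, by ring⟩)

theorem mono_mem_iff (B : Frame7 Q) (w : W) : mono h2 B w ∈ Cfsg.Omega F (⇑Q) ↔ w ∈ H := by
  rw [omega_iff7 h2 hQ hns, mem_H,
    show dickson Q hQ (mono h2 B w) = _ from signed_perm_hom ((dickson Q hQ).comp (mono h2 B)) (-1) (-1)
      (fun i => by rw [MonoidHom.comp_apply, mono_single, dickson_refl])
      (fun i j h => by rw [MonoidHom.comp_apply, mono_swap h2 B h, dickson_refl]) w,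
    show spin Q (mono h2 B w) = _ from signed_perm_hom ((spin Q).comp (mono h2 B)) _ _
      (spin_single h2 hQ hns B) (spin_swap h2 hQ hns B) w]
  exact sign_table _ _ _ _ (spin_ne h2 hQ hns B)

/-- The embedded `2⁶:A₇`. -/
noncomputable def emb7 (B : Frame7 Q) : H →* ↥(Cfsg.Omega F (⇑Q)) :=
  ((mono h2 B).comp H.subtype).codRestrict _ fun w => (mono_mem_iff h2 hQ hns B w).2 w.2

theorem exists_fusion (B : Frame7 Q) : ∃ g ∈ Cfsg.Omega F (⇑Q), g * mono h2 B eW * g⁻¹ = mono h2 B tW := by
  obtain ⟨p, hp⟩ := CharP.exists F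
  haveI := hp
  obtain ⟨a, b, hab⟩ := FiniteField.exists_root_sum_quadratic (R := F)
    (f := Polynomial.C (2 : F) * Polynomial.X ^ 2) (g := Polynomial.C (2 : F) * Polynomial.X ^ 2 - Polynomial.C 1)
    (by rw [Polynomial.degree_C_mul_X_pow _ h2]; rfl)
    (by rw [Polynomial.degree_sub_C (by rw [Polynomial.degree_C_mul_X_pow _ h2]; decide),
      Polynomial.degree_C_mul_X_pow _ h2]; rfl)
    (FiniteField.odd_card_of_char_ne_two (fun h => h2 (by haveI := ringChar.of_eq h; exact CharTwo.two_eq_zero)))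
  simp only [Polynomial.eval_mul, Polynomial.eval_C, Polynomial.eval_pow, Polynomial.eval_X, Polynomial.eval_sub] at hab
  let u₀ := B.f 0 - B.f 1
  let u₁ := B.f 2 - B.f 3
  let v₀ := B.f 0 + B.f 1
  let v₁ := B.f 2 + B.f 3
  let B' : Frame7 Q :=
    { f := ![a • u₀ + b • u₁, (-b) • u₀ + a • u₁, a • v₀ + b • v₁, (-b) • v₀ + a • v₁, B.f 4, B.f 5, B.f 6]
      val := fun i => by
        fin_cases i <;>
          simp [u₀, u₁, v₀, v₁, sub_eq_add_neg, QuadraticMap.map_add (f := Q), QuadraticMap.map_smul,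
            QuadraticMap.polar_add_left, QuadraticMap.polar_add_right, QuadraticMap.polar_smul_left,
            QuadraticMap.polar_smul_right, QuadraticMap.polar_neg_left, QuadraticMap.polar_neg_right,
            B.orth, B.val] <;>
          linear_combination -hab
      orth := fun i j hij => by
        fin_cases i <;> fin_cases j <;> first
          | exact absurd rfl hij
          | (simp [u₀, u₁, v₀, v₁, sub_eq_add_neg, QuadraticMap.polar_add_left, QuadraticMap.polar_add_right,
              QuadraticMap.polar_smul_left, QuadraticMap.polar_smul_right, QuadraticMap.polar_neg_left,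
              QuadraticMap.polar_neg_right, B.orth, B.val] <;> ring) }
  obtain ⟨g, hg⟩ := exists_isometry h2 B B'
  have hval : ∀ i, mat Q (mono h2 B eW) *ᵥ B.f i = ((dd 0 1 i : ℤ) : F) • B.f i := fun i => by
    rw [mono_apply]; rfl
  have ht : ∀ i, mat Q (mono h2 B tW) *ᵥ B.f i = B.f (dP 5 i) := fun i => by
    rw [mono_apply, tW, right_inr, left_inr]; simp
  have hge : g * mono h2 B eW * g⁻¹ = mono h2 B tW := by
    rw [mul_inv_eq_iff_eq_mul]
    refine ext7 B (fun i => ?_) h2
    rw [mat_mul, mat_mul, hval, Matrix.mulVec_smul, hg]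
    have d0 : dP 5 0 = 1 := by decide +kernel
    have d1 : dP 5 1 = 0 := by decide +kernel
    have d2 : dP 5 2 = 3 := by decide +kernel
    have d3 : dP 5 3 = 2 := by decide +kernel
    have d4 : dP 5 4 = 4 := by decide +kernel
    have d5 : dP 5 5 = 5 := by decide +kernel
    have d6 : dP 5 6 = 6 := by decide +kernel
    fin_cases i <;>
      simp [B', u₀, u₁, v₀, v₁, dd, Matrix.mulVec_add, Matrix.mulVec_sub, Matrix.mulVec_smul, Matrix.mulVec_neg,
        ht, d0, d1, d2, d3, d4, d5, d6] <;>
      module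
  obtain ⟨i, j, hd, hs⟩ := class_table _ _ (dickson Q hQ g) (spin Q g) (spin_ne h2 hQ hns B)
  let w : W := (if i then inl (Pi.mulSingle 2 (-1)) else 1) * (if j then inr (swap 5 6) else 1)
  have hw : Commute w eW := by
    refine Commute.mul_left ?_ ?_
    · split_ifs
      · exact SemidirectProduct.ext (by simp [eW, mul_comm]) rfl
      · exact Commute.one_left _
    · split_ifs
      · refine SemidirectProduct.ext ?_ (by simp [eW])
        simp only [eW, mul_left, left_inr, right_inr, left_inl, right_inl, one_mul, map_one, mul_one]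
        exact funext (by decide +kernel)
      · exact Commute.one_left _
  refine ⟨g * mono h2 B w, (omega_iff7 h2 hQ hns _).2 ⟨?_, ?_⟩, ?_⟩
  · rw [map_mul, hd]
    cases i <;> cases j <;> simp [w, map_mul, mono_single, mono_swap h2 B (show (5 : Fin 7) ≠ 6 by decide), dickson_refl]
  · rw [map_mul, hs]
    cases i <;> cases j <;>
      simp [w, map_mul, spin_single h2 hQ hns B, spin_swap h2 hQ hns B 5 6 (by decide), Int.units_mul_self,
        mul_comm, mul_left_comm]
  · rw [← hge, mul_assoc g, ← map_mul, hw.eq, map_mul]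
    group

theorem emb7_Emb (B : Frame7 Q) : Emb (emb7 h2 hQ hns B) where
  inj a b h := Subtype.ext (mono_injective h2 B (congrArg Subtype.val h :))
  fus := by
    obtain ⟨g, hg, e⟩ := exists_fusion h2 hQ hns B
    exact ⟨⟨g, hg⟩, ⟨eW, (dd_mem 0 1 (by decide)).1⟩, ⟨tW, (dP_mem 5).1⟩, rfl, rfl, Subtype.ext e⟩
  norm g hg := by
    let x : Cfsg.isometryGroup F (⇑Q) := (g : Cfsg.isometryGroup F (⇑Q))⁻¹
    have heig : ∀ a b, a ≠ b → ∀ j, ∃ s : F, mat Q (mono h2 B (inl (dd a b))) *ᵥ (mat Q x *ᵥ B.f j) =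
        s • (mat Q x *ᵥ B.f j) := by
      intro a b hab j
      obtain ⟨c, hc, e⟩ := hg ⟨_, (dd_mem a b hab).1⟩ (dd_mem a b hab)
      have e' : mono h2 B (inl (dd a b)) * x = x * mono h2 B c := by
        have := congrArg Subtype.val e
        change (g : Cfsg.isometryGroup F (⇑Q)) * mono h2 B (inl (dd a b)) * (g : Cfsg.isometryGroup F (⇑Q))⁻¹ =
          mono h2 B c at this
        rw [← this]
        simp only [x]
        group
      refine ⟨(((c : W).left j : ℤ) : F), ?_⟩
      rw [← mat_mul, e', mat_mul, mono_apply, (mem_EW.1 hc).2, Perm.one_apply, Matrix.mulVec_smul]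
    have hline : ∀ j, ∃ k, ∃ s : ℤˣ, mat Q x *ᵥ B.f j = ((s : ℤ) : F) • B.f k := by
      intro j
      let r := (basis7 h2 B).repr (mat Q x *ᵥ B.f j)
      have hsum : mat Q x *ᵥ B.f j = ∑ k, r k • B.f k := by
        conv_lhs => rw [← (basis7 h2 B).sum_repr (mat Q x *ᵥ B.f j)]
        simp only [basis7_apply, r]
      have huniq : ∀ a c, r a ≠ 0 → r c ≠ 0 → a = c := by
        intro a c ha hc
        by_contra hne
        obtain ⟨d, hda, hdc⟩ : ∃ d, d ≠ a ∧ d ≠ c :=
          (show ∀ x y : Fin 7, ∃ d : Fin 7, d ≠ x ∧ d ≠ y by decide) a c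
        obtain ⟨s, hs⟩ := heig a d hda.symm j
        rw [hsum, Matrix.mulVec_sum, Finset.smul_sum] at hs
        simp only [Matrix.mulVec_smul, mono_apply, right_inl, left_inl, Perm.one_apply, smul_smul] at hs
        have hcoef := Fintype.linearIndependent_iff.1 (indep7 h2 B)
          (fun k => r k * ((dd a d k : ℤ) : F) - s * r k)
          (by simp only [sub_smul, Finset.sum_sub_distrib, hs, sub_self])
        have e1 := hcoef a
        have e2 := hcoef c
        simp only [dd, true_or, if_true, Ne.symm hne, Ne.symm hdc, or_self, if_false, Units.val_neg, Units.val_one,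
          Int.cast_neg, Int.cast_one] at e1 e2
        have s1 : s = -1 := mul_right_cancel₀ ha (by linear_combination -e1)
        have s2 : s = 1 := mul_right_cancel₀ hc (by linear_combination -e2)
        exact h2 (by linear_combination s1 - s2)
      have hne : ∃ k, r k ≠ 0 := by
        by_contra hc
        push Not at hc
        have hz : mat Q x *ᵥ B.f j = 0 := by rw [hsum]; simp [hc]
        have := (mem_iff Q).1 x.2 (B.f j)
        rw [show ((x : Matrix.GeneralLinearGroup I7 F) : Matrix I7 I7 F) *ᵥ B.f j = 0 from hz,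
          QuadraticMap.map_zero, B.val] at this
        exact neg_ne_zero.2 one_ne_zero this.symm
      obtain ⟨k, hk⟩ := hne
      have hv : mat Q x *ᵥ B.f j = r k • B.f k := by
        rw [hsum, Finset.sum_eq_single k (fun c _ hck => by
          by_contra h
          exact hck (huniq c k (fun h0 => h (by rw [h0, zero_smul])) hk)) (fun h => absurd (Finset.mem_univ k) h)]
      have hn := (mem_iff Q).1 x.2 (B.f j)
      rw [show ((x : Matrix.GeneralLinearGroup I7 F) : Matrix I7 I7 F) *ᵥ B.f j = r k • B.f k from hv,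
        QuadraticMap.map_smul, B.val, B.val, smul_eq_mul, mul_neg, mul_one, neg_inj, mul_self_eq_one_iff] at hn
      rcases hn with e | e
      · exact ⟨k, 1, by rw [hv, e]; simp⟩
      · exact ⟨k, -1, by rw [hv, e]; simp⟩
    choose π s hπ using hline
    have hinj : Function.Injective π := fun i j h => by
      by_contra hne
      have hp : QuadraticMap.polar (⇑Q) (mat Q x *ᵥ B.f i) (mat Q x *ᵥ B.f j) = 0 := by
        rw [← B.orth i j hne]
        simp only [QuadraticMap.polar, ← Matrix.mulVec_add]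
        rw [(mem_iff Q).1 x.2, (mem_iff Q).1 x.2, (mem_iff Q).1 x.2]
      rw [hπ i, hπ j, h, QuadraticMap.polar_smul_left, QuadraticMap.polar_smul_right, polar_ff,
        smul_eq_mul, smul_eq_mul] at hp
      rcases Int.units_eq_one_or (s i) with e | e <;> rcases Int.units_eq_one_or (s j) with e' | e' <;>
        simp [e, e', h2] at hp
    let σ : P := Equiv.ofBijective π (Finite.injective_iff_bijective.1 hinj)
    let w : W := ⟨fun k => s (σ⁻¹ k), σ⟩
    have hx : mono h2 B w = x := ext7 B (fun i => by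
      rw [mono_apply, hπ]
      show ((s (σ⁻¹ (σ i)) : ℤ) : F) • B.f (σ i) = _
      rw [show σ⁻¹ (σ i) = i from σ.symm_apply_apply i]
      rfl) h2
    have hw : w ∈ H := (mono_mem_iff h2 hQ hns B w).1 (by rw [hx]; exact inv_mem g.2)
    refine ⟨(⟨w, hw⟩ : H)⁻¹, Subtype.ext ?_⟩
    show mono h2 B w⁻¹ = _
    rw [map_inv, hx, inv_inv]

end Fin

end Cfsg.Lib.OmegaSevenFus
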